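import Mathlib
import Cfsg.Agent.H379.J2Orders
import Cfsg.Agent.J2.HundredGens
set_option linter.all false

-- part: H379/PermOrders
section
/-!
# The element orders of the symmetric group of degree 8

`range_perm8`: the set of element orders of `S₈` is {1, 2, 3, 4, 5, 6, 7, 8, 10, 12, 15}.
-/

set_option autoImplicit false

namespace Cfsg.Agent.H379.PermOrders

open Equiv

/-- The least common multiple of a multiset of numbers at least 2 with sum at most 8. -/
theorem lcm_mem8 (s : Multiset ℕ) (h2 : ∀ x ∈ s, 2 ≤ x) (h8 : s.sum ≤ 8) :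
    s.lcm ∈ ({1, 2, 3, 4, 5, 6, 7, 8, 10, 12, 15} : Finset ℕ) := by
  rcases s.empty_or_exists_mem with rfl | ⟨a, ha⟩
  · simp
  obtain ⟨s, rfl⟩ := Multiset.exists_cons_of_mem ha
  have ha2 := h2 a (Multiset.mem_cons_self _ _)
  rcases s.empty_or_exists_mem with rfl | ⟨b, hb⟩
  · simp only [Multiset.sum_cons, Multiset.sum_zero] at h8
    have : a ≤ 8 := by omega
    interval_cases a <;> decide
  obtain ⟨s, rfl⟩ := Multiset.exists_cons_of_mem hb
  have hb2 := h2 b (Multiset.mem_cons_of_mem (Multiset.mem_cons_self _ _))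
  rcases s.empty_or_exists_mem with rfl | ⟨c, hc⟩
  · simp only [Multiset.sum_cons, Multiset.sum_zero] at h8
    have h9 : a ≤ 6 := by omega
    have h10 : b ≤ 6 := by omega
    interval_cases a <;> interval_cases b <;> first | omega | decide
  obtain ⟨s, rfl⟩ := Multiset.exists_cons_of_mem hc
  have hc2 := h2 c (Multiset.mem_cons_of_mem (Multiset.mem_cons_of_mem (Multiset.mem_cons_self _ _)))
  rcases s.empty_or_exists_mem with rfl | ⟨d, hd⟩
  · simp only [Multiset.sum_cons, Multiset.sum_zero] at h8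
    have h9 : a ≤ 4 := by omega
    have h10 : b ≤ 4 := by omega
    have h11 : c ≤ 4 := by omega
    interval_cases a <;> interval_cases b <;> interval_cases c <;> first | omega | decide
  obtain ⟨s, rfl⟩ := Multiset.exists_cons_of_mem hd
  have hd2 := h2 d (Multiset.mem_cons_of_mem (Multiset.mem_cons_of_mem (Multiset.mem_cons_of_mem
    (Multiset.mem_cons_self _ _))))
  rcases s.empty_or_exists_mem with rfl | ⟨e, he⟩
  · simp only [Multiset.sum_cons, Multiset.sum_zero] at h8
    have h9 : a = 2 := by omega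
    have h10 : b = 2 := by omega
    have h11 : c = 2 := by omega
    have h12 : d = 2 := by omega
    subst h9 h10 h11 h12
    decide
  obtain ⟨s, rfl⟩ := Multiset.exists_cons_of_mem he
  have he2 := h2 e (Multiset.mem_cons_of_mem (Multiset.mem_cons_of_mem (Multiset.mem_cons_of_mem
    (Multiset.mem_cons_of_mem (Multiset.mem_cons_self _ _)))))
  simp only [Multiset.sum_cons] at h8
  omega

theorem orderOf_mem8 (g : Perm (Fin 8)) : orderOf g ∈ ({1, 2, 3, 4, 5, 6, 7, 8, 10, 12, 15} : Finset ℕ) := by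
  rw [← Perm.lcm_cycleType g]
  apply lcm_mem8
  · exact fun x hx => Perm.two_le_of_mem_cycleType hx
  · rw [Perm.sum_cycleType]
    exact (Finset.card_le_univ _).trans (by simp)

/-- All divisors of an element order are element orders. -/
theorem mem_range_of_dvd {G : Type*} [Group G] [Finite G] {n m : ℕ} (h : n ∈ Set.range (orderOf : G → ℕ))
    (hm : m ∣ n) : m ∈ Set.range (orderOf : G → ℕ) := by
  obtain ⟨g, rfl⟩ := h
  have h0 : 0 < orderOf g := orderOf_pos g
  obtain ⟨c, hc⟩ := hm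
  have hc0 : c ≠ 0 := by rintro rfl; omega
  refine ⟨g ^ c, ?_⟩
  rw [orderOf_pow_of_dvd hc0 ⟨m, by rw [hc, mul_comm]⟩, hc]
  exact Nat.mul_div_cancel _ (Nat.pos_of_ne_zero hc0)

/-- If all element orders are in the list and 7, 8, 10, 12, 15 occur, the list is exactly the set of element orders. -/
theorem range_eq {G : Type*} [Group G] [Finite G]
    (h : ∀ g : G, orderOf g ∈ ({1, 2, 3, 4, 5, 6, 7, 8, 10, 12, 15} : Finset ℕ))
    (h7 : ∃ g : G, orderOf g = 7) (h8 : ∃ g : G, orderOf g = 8) (h10 : ∃ g : G, orderOf g = 10)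
    (h12 : ∃ g : G, orderOf g = 12) (h15 : ∃ g : G, orderOf g = 15) :
    Set.range (orderOf : G → ℕ) = (({1, 2, 3, 4, 5, 6, 7, 8, 10, 12, 15} : Finset ℕ) : Set ℕ) := by
  apply Set.Subset.antisymm
  · rintro _ ⟨g, rfl⟩
    exact h g
  · intro n hn
    have hn' : n ∈ ({1, 2, 3, 4, 5, 6, 7, 8, 10, 12, 15} : Finset ℕ) := hn
    simp only [Finset.mem_insert, Finset.mem_singleton] at hn'
    rcases hn' with rfl | rfl | rfl | rfl | rfl | rfl | rfl | rfl | rfl | rfl | rfl
    · exact mem_range_of_dvd h8 (by decide)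
    · exact mem_range_of_dvd h8 (by decide)
    · exact mem_range_of_dvd h12 (by decide)
    · exact mem_range_of_dvd h8 (by decide)
    · exact mem_range_of_dvd h10 (by decide)
    · exact mem_range_of_dvd h12 (by decide)
    · exact h7
    · exact h8
    · exact h10
    · exact h12
    · exact h15

/-- The order of an element from finitely many powers. -/
theorem orderOf_of_pows {G : Type*} [Group G] {g : G} {n : ℕ} (hn : 0 < n) (h : g ^ n = 1)
    (h' : ∀ p : ℕ, p.Prime → p ∣ n → g ^ (n / p) ≠ 1) : orderOf g = n :=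
  orderOf_eq_of_pow_and_pow_div_prime hn h h'

theorem prime_dvd_cases {n : ℕ} {P : ℕ → Prop} (h : ∀ p ∈ n.primeFactors, P p) (hn : n ≠ 0) :
    ∀ p : ℕ, p.Prime → p ∣ n → P p := fun p hp hd => h p (Nat.mem_primeFactors.2 ⟨hp, hd, hn⟩)

theorem pf7 : (7 : ℕ).primeFactors = {7} := by
  rw [Nat.Prime.primeFactors (by norm_num)]
theorem pf8 : (8 : ℕ).primeFactors = {2} := by
  rw [show (8 : ℕ) = 2 ^ 3 by norm_num, Nat.primeFactors_prime_pow (by norm_num) (by norm_num)]
theorem pf10 : (10 : ℕ).primeFactors = {2, 5} := by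
  rw [show (10 : ℕ) = 2 * 5 by norm_num, Nat.primeFactors_mul (by norm_num) (by norm_num),
    Nat.Prime.primeFactors (by norm_num), Nat.Prime.primeFactors (by norm_num)]; rfl
theorem pf12 : (12 : ℕ).primeFactors = {2, 3} := by
  rw [show (12 : ℕ) = 2 ^ 2 * 3 by norm_num, Nat.primeFactors_mul (by norm_num) (by norm_num),
    Nat.primeFactors_prime_pow (by norm_num) (by norm_num), Nat.Prime.primeFactors (by norm_num)]; rfl
theorem pf15 : (15 : ℕ).primeFactors = {3, 5} := by
  rw [show (15 : ℕ) = 3 * 5 by norm_num, Nat.primeFactors_mul (by norm_num) (by norm_num),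
    Nat.Prime.primeFactors (by norm_num), Nat.Prime.primeFactors (by norm_num)]; rfl

theorem ord7 {G : Type*} [Group G] {g : G} (h : g ^ 7 = 1) (h1 : g ≠ 1) : orderOf g = 7 := by
  refine orderOf_eq_of_pow_and_pow_div_prime (by norm_num) h (prime_dvd_cases (n := 7)
    (P := fun p => g ^ (7 / p) ≠ 1) ?_ (by norm_num))
  rw [pf7]
  simpa using h1

theorem ord8 {G : Type*} [Group G] {g : G} (h : g ^ 8 = 1) (h1 : g ^ 4 ≠ 1) : orderOf g = 8 := by
  refine orderOf_eq_of_pow_and_pow_div_prime (by norm_num) h (prime_dvd_cases (n := 8)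
    (P := fun p => g ^ (8 / p) ≠ 1) ?_ (by norm_num))
  rw [pf8]
  simpa using h1

theorem ord10 {G : Type*} [Group G] {g : G} (h : g ^ 10 = 1) (h1 : g ^ 5 ≠ 1) (h2 : g ^ 2 ≠ 1) : orderOf g = 10 := by
  refine orderOf_eq_of_pow_and_pow_div_prime (by norm_num) h (prime_dvd_cases (n := 10)
    (P := fun p => g ^ (10 / p) ≠ 1) ?_ (by norm_num))
  rw [pf10]
  simpa using ⟨h1, h2⟩

theorem ord12 {G : Type*} [Group G] {g : G} (h : g ^ 12 = 1) (h1 : g ^ 6 ≠ 1) (h2 : g ^ 4 ≠ 1) : orderOf g = 12 := by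
  refine orderOf_eq_of_pow_and_pow_div_prime (by norm_num) h (prime_dvd_cases (n := 12)
    (P := fun p => g ^ (12 / p) ≠ 1) ?_ (by norm_num))
  rw [pf12]
  simpa using ⟨h1, h2⟩

theorem ord15 {G : Type*} [Group G] {g : G} (h : g ^ 15 = 1) (h1 : g ^ 5 ≠ 1) (h2 : g ^ 3 ≠ 1) : orderOf g = 15 := by
  refine orderOf_eq_of_pow_and_pow_div_prime (by norm_num) h (prime_dvd_cases (n := 15)
    (P := fun p => g ^ (15 / p) ≠ 1) ?_ (by norm_num))
  rw [pf15]
  simpa using ⟨h1, h2⟩

theorem range_perm8 : Set.range (orderOf : Perm (Fin 8) → ℕ) =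
    (({1, 2, 3, 4, 5, 6, 7, 8, 10, 12, 15} : Finset ℕ) : Set ℕ) := by
  refine range_eq orderOf_mem8 ?_ ?_ ?_ ?_ ?_
  · exact ⟨c[0, 1, 2, 3, 4, 5, 6], ord7 (by decide +kernel) (by decide +kernel)⟩
  · exact ⟨c[0, 1, 2, 3, 4, 5, 6, 7], ord8 (by decide +kernel) (by decide +kernel)⟩
  · exact ⟨c[0, 1, 2, 3, 4] * c[5, 6], ord10 (by decide +kernel) (by decide +kernel) (by decide +kernel)⟩
  · exact ⟨c[0, 1, 2, 3] * c[4, 5, 6], ord12 (by decide +kernel) (by decide +kernel) (by decide +kernel)⟩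
  · exact ⟨c[0, 1, 2] * c[3, 4, 5, 6, 7], ord15 (by decide +kernel) (by decide +kernel) (by decide +kernel)⟩

end Cfsg.Agent.H379.PermOrders
end

-- part: H379/J2Spec
section
/-!
# The element orders of the Hall–Janko group

`range_J2`: the set of element orders of `J₂` is {1, 2, 3, 4, 5, 6, 7, 8, 10, 12, 15}.
-/

set_option autoImplicit false

namespace Cfsg.Agent.H379.J2Spec

open Cfsg.Agent.J2.HundredGens Cfsg.Agent.H379.PermOrders Cfsg.Agent.SporadicA.PermTab

/-- A power of a word. -/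
def rep (L : List ℕ) (n : ℕ) : List ℕ := Nat.rec [] (fun _ ih => L ++ ih) n

theorem pw_rep (L : List ℕ) (n : ℕ) : pw L ^ n = pw (rep L n) := by
  induction n with
  | zero => rw [pow_zero]; exact pw_nil.symm
  | succ n ih =>
    have : rep L (n + 1) = L ++ rep L n := rfl
    rw [pow_succ', ih, this, pw_append]

theorem pw_ne_one {L : List ℕ} (i : Fin 100) (h : Nat.beq (run L i) i = false) : pw L ≠ 1 := by
  intro h1
  have h2 : ((pw L i : Fin 100) : ℕ) = i := by rw [h1]; rfl
  rw [pw_val] at h2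
  exact Nat.ne_of_beq_eq_false h h2

def w7 : List ℕ := [3, 0, 1, 2, 3, 4, 2, 1, 2]
def w8 : List ℕ := [2, 3]
def w10 : List ℕ := [0, 1, 3]
def w12 : List ℕ := [2, 3, 4]
def w15 : List ℕ := [0, 1, 3, 4]

theorem pw_pow_one {L : List ℕ} {n : ℕ} (h : chk (rep L n) [] = true) : pw L ^ n = 1 := by
  rw [pw_rep, pw_eq h, pw_nil]

theorem pw_pow_ne {L : List ℕ} (n : ℕ) (h : Nat.beq (run (rep L n) 0) 0 = false) : pw L ^ n ≠ 1 := by
  rw [pw_rep]; exact pw_ne_one (0 : Fin 100) h

theorem o7 : orderOf (pw w7) = 7 :=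
  ord7 (pw_pow_one (by decide +kernel)) (pw_ne_one (L := w7) 0 (by decide +kernel))
theorem o8 : orderOf (pw w8) = 8 :=
  ord8 (pw_pow_one (by decide +kernel)) (pw_pow_ne 4 (by decide +kernel))
theorem o10 : orderOf (pw w10) = 10 :=
  ord10 (pw_pow_one (by decide +kernel)) (pw_pow_ne 5 (by decide +kernel)) (pw_pow_ne 2 (by decide +kernel))
theorem o12 : orderOf (pw w12) = 12 :=
  ord12 (pw_pow_one (by decide +kernel)) (pw_pow_ne 6 (by decide +kernel)) (pw_pow_ne 4 (by decide +kernel))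
theorem o15 : orderOf (pw w15) = 15 :=
  ord15 (pw_pow_one (by decide +kernel)) (pw_pow_ne 5 (by decide +kernel)) (pw_pow_ne 3 (by decide +kernel))

/-- Element orders are preserved by isomorphisms. -/
theorem range_congr {G H : Type*} [Group G] [Group H] (e : G ≃* H) :
    Set.range (orderOf : G → ℕ) = Set.range (orderOf : H → ℕ) := by
  ext n
  constructor
  · rintro ⟨g, rfl⟩
    exact ⟨e g, e.orderOf_eq g⟩
  · rintro ⟨h, rfl⟩
    exact ⟨e.symm h, e.symm.orderOf_eq h⟩

theorem iso : Nonempty (Cfsg.Spor.J2 ≃* Cfsg.Agent.SporadicA.J2Hundred.G) :=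
  J2_iso Cfsg.Agent.S1619.result.2.2.2

theorem finite_J2 : Finite Cfsg.Spor.J2 := by
  obtain ⟨e⟩ := iso
  exact Finite.of_equiv _ e.symm.toEquiv

theorem exists_order {n : ℕ} {L : List ℕ} (h : orderOf (pw L) = n) : ∃ g : Cfsg.Spor.J2, orderOf g = n := by
  obtain ⟨e⟩ := iso
  refine ⟨e.symm (gw L), ?_⟩
  rw [e.symm.orderOf_eq, ← h]
  exact Subgroup.orderOf_mk _ _

theorem orders_J2 (g : Cfsg.Spor.J2) : orderOf g ∈ ({1, 2, 3, 4, 5, 6, 7, 8, 10, 12, 15} : Finset ℕ) := by
  have := finite_J2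
  obtain ⟨t, u, Q, v, ρ, D⟩ := Cfsg.Agent.KFacts.J2.Basic.exists_dat
  exact Cfsg.Agent.H379.J2Orders.orders_mem D g

/-- **The element orders of the Hall–Janko group.** -/
theorem range_J2 : Set.range (orderOf : Cfsg.Spor.J2 → ℕ) =
    (({1, 2, 3, 4, 5, 6, 7, 8, 10, 12, 15} : Finset ℕ) : Set ℕ) := by
  have := finite_J2
  exact range_eq orders_J2 (exists_order o7) (exists_order o8) (exists_order o10) (exists_order o12)
    (exists_order o15)

end Cfsg.Agent.H379.J2Spec
end
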